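import Mathlib
import Cfsg.Prelude.Def_Classical
import Cfsg.Agent.Lib.ClassicalGroups.HermGroup
import Cfsg.Agent.Lib.Recognition.PSU34.FieldModel

/-!
A decidable model of SU(3,4) and its transport to any field with sixteen elements.
-/

namespace CfsgLib.Recognition.PSU34

open Matrix

variable {K : Type*} [Field K]

/-- Gram matrix criterion for membership in SU(3,4). -/
theorem mem_SU_four (hK : ringExpChar K = 2) [Fintype K] (g : Matrix.SpecialLinearGroup (Fin 3) K) :
    g ∈ Cfsg.SU 3 K 4 ↔ g.1ᵀ * g.1.map (fun x => x ^ 4) = 1 := by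
  haveI : CharP K 2 := by
    have := ringExpChar.expChar (R := K)
    rw [hK] at this
    rcases this with ⟨⟩
    assumption
  have hadd : ∀ a b : K, (a + b) ^ 4 = a ^ 4 + b ^ 4 := fun a b => by
    rw [show (4 : ℕ) = 2 ^ 2 by norm_num, add_pow_char_pow]
  constructor
  · intro hg
    ext i j
    have h := CfsgLib.ClassicalGroups.mem_SU_iff.1 hg (Pi.single i 1) (Pi.single j 1)
    simp only [Cfsg.hermForm, Matrix.mulVec_single_one, Matrix.col_apply] at h
    rw [Matrix.mul_apply]
    simp only [Matrix.transpose_apply, Matrix.map_apply, h, Matrix.one_apply]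
    fin_cases i <;> fin_cases j <;> simp [Fin.sum_univ_three]
  · intro hg u v
    have key : (fun i => ((g.1 *ᵥ v) i) ^ 4) = g.1.map (fun x => x ^ 4) *ᵥ fun k => v k ^ 4 := by
      funext i
      simp only [Matrix.mulVec, dotProduct, Fin.sum_univ_three, hadd, mul_pow, Matrix.map_apply]
    change (g.1 *ᵥ u) ⬝ᵥ (fun i => ((g.1 *ᵥ v) i) ^ 4) = u ⬝ᵥ fun k => v k ^ 4
    rw [key, Matrix.dotProduct_mulVec, ← Matrix.mulVec_transpose, Matrix.mulVec_mulVec]
    have h4 : (g.1.map (fun x => x ^ 4))ᵀ * g.1 = 1 := by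
      rw [← Matrix.transpose_one, ← hg, Matrix.transpose_mul, Matrix.transpose_transpose]
    rw [h4, Matrix.one_mulVec]

theorem ringExpChar_two [Fintype K] (hK : Fintype.card K = 16) : ringExpChar K = 2 := by
  haveI : Fact (Nat.Prime 2) := ⟨Nat.prime_two⟩
  haveI : CharP K 2 := charP_of_card_eq_prime_pow (f := 4) (by norm_num [hK])
  exact ringExpChar.eq K 2

/-- Conjugation on matrices. -/
def bar (M : Matrix (Fin 3) (Fin 3) F16) : Matrix (Fin 3) (Fin 3) F16 := M.map fun x => x ^ 4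

theorem bar_add : ∀ a b : F16, (a + b) ^ 4 = a ^ 4 + b ^ 4 := by
  have h : ∀ i j : Fin 16, ((⟨i⟩ : F16) + ⟨j⟩) ^ 4 = (⟨i⟩ : F16) ^ 4 + (⟨j⟩ : F16) ^ 4 := by decide +kernel
  exact fun a b => h a.v b.v

theorem bar_bar_apply : ∀ a : F16, (a ^ 4) ^ 4 = a := by
  have h : ∀ i : Fin 16, ((⟨i⟩ : F16) ^ 4) ^ 4 = ⟨i⟩ := by decide +kernel
  exact fun a => h a.v

theorem bar_mul (M N : Matrix (Fin 3) (Fin 3) F16) : bar (M * N) = bar M * bar N := by
  refine Matrix.ext fun i j => ?_
  simp only [bar, Matrix.map_apply, Matrix.mul_apply, Fin.sum_univ_three, bar_add, mul_pow]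

/-- The special unitary matrices of the model, as a monoid. -/
def goodMonoid : Submonoid (Matrix (Fin 3) (Fin 3) F16) where
  carrier := {M | Mᵀ * bar M = 1 ∧ M.det = 1}
  one_mem' := ⟨by decide +kernel, Matrix.det_one⟩
  mul_mem' := by
    rintro M N ⟨h1, h2⟩ ⟨h3, h4⟩
    refine ⟨?_, by rw [Matrix.det_mul, h2, h4, one_mul]⟩
    rw [bar_mul, Matrix.transpose_mul, ← mul_assoc, mul_assoc Nᵀ, h1, mul_one, h3]

/-- Its elements. -/
abbrev Good := {M : Matrix (Fin 3) (Fin 3) F16 // M ∈ goodMonoid}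

theorem bar_bar (M : Matrix (Fin 3) (Fin 3) F16) : bar (bar M) = M :=
  Matrix.ext fun i j => bar_bar_apply _

theorem good_inv (M : Good) : ((bar M.1)ᵀ : Matrix (Fin 3) (Fin 3) F16) ∈ goodMonoid := by
  obtain ⟨h1, h2⟩ := M.2
  have h3 : (bar M.1).det = 1 := by
    have h := congrArg Matrix.det h1
    rwa [Matrix.det_mul, Matrix.det_transpose, h2, one_mul, Matrix.det_one] at h
  refine ⟨?_, by rw [Matrix.det_transpose, h3]⟩
  rw [Matrix.transpose_transpose,
    show bar (bar M.1)ᵀ = (bar (bar M.1))ᵀ from Matrix.transpose_map .., bar_bar]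
  exact mul_eq_one_comm.1 h1

instance : Group Good where
  inv M := ⟨(bar M.1)ᵀ, good_inv M⟩
  inv_mul_cancel M := Subtype.ext <| by
    show (bar M.1)ᵀ * M.1 = 1
    rw [← Matrix.transpose_one, ← M.2.1, Matrix.transpose_mul, Matrix.transpose_transpose]

instance (M : Matrix (Fin 3) (Fin 3) F16) : Decidable (M ∈ goodMonoid) :=
  decidable_of_iff (Mᵀ * bar M = 1 ∧ M.det = 1) Iff.rfl

/-- The model is SU(3,4) over any field with sixteen elements. -/
noncomputable def goodEquiv [Fintype K] (hK : Fintype.card K = 16) (e : F16 ≃+* K) :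
    Good ≃* Cfsg.SU 3 K 4 where
  toFun M := ⟨⟨M.1.map e, by
      rw [← RingEquiv.mapMatrix_apply, ← RingEquiv.map_det, M.2.2, map_one]⟩, by
    refine (mem_SU_four (ringExpChar_two hK) _).2 ?_
    show (M.1.map e)ᵀ * (M.1.map e).map (fun x => x ^ 4) = 1
    have h : (M.1.map e).map (fun x => x ^ 4) = (bar M.1).map e := by
      ext i j; simp [bar]
    rw [h, ← Matrix.transpose_map, ← Matrix.map_mul, M.2.1, Matrix.map_one _ (map_zero e) (map_one e)]⟩
  invFun g := ⟨(g : Matrix.SpecialLinearGroup (Fin 3) K).1.map e.symm, by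
    have h1 := (mem_SU_four (ringExpChar_two hK) _).1 g.2
    refine ⟨?_, by rw [← RingEquiv.mapMatrix_apply, ← RingEquiv.map_det,
      (g : Matrix.SpecialLinearGroup (Fin 3) K).2, map_one]⟩
    have h : bar ((g : Matrix.SpecialLinearGroup (Fin 3) K).1.map e.symm) =
        ((g : Matrix.SpecialLinearGroup (Fin 3) K).1.map (fun x => x ^ 4)).map e.symm := by
      ext i j; simp [bar]
    rw [h, ← Matrix.transpose_map, ← Matrix.map_mul, h1,
      Matrix.map_one _ (map_zero e.symm) (map_one e.symm)]⟩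
  left_inv M := Subtype.ext <| by ext i j; simp
  right_inv g := Subtype.ext <| Subtype.ext <| by ext i j; simp
  map_mul' M N := Subtype.ext <| Subtype.ext <| by
    show (M.1 * N.1).map e = M.1.map e * N.1.map e
    exact Matrix.map_mul

theorem goodEquiv_coe [Fintype K] (hK : Fintype.card K = 16) (e : F16 ≃+* K) (M : Good) :
    ((goodEquiv hK e M : Matrix.SpecialLinearGroup (Fin 3) K) : Matrix (Fin 3) (Fin 3) K) = M.1.map e := rfl

theorem card_SU34 [Fintype K] (hK : Fintype.card K = 16) : Nat.card (Cfsg.SU 3 K 4) = 62400 := by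
  have hK' : Fintype.card K = 4 ^ 2 := by omega
  have h := CfsgLib.ClassicalGroups.card_SU_mul hK' (show 1 ≤ 3 by norm_num)
  rw [CfsgLib.ClassicalGroups.card_GU hK'] at h
  norm_num [Finset.prod_range_succ] at h
  omega

end CfsgLib.Recognition.PSU34
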