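import Mathlib
import Cfsg.Agent.Lib.Recognition.PSU34.Unitary

/-!
Tables for a twelve dimensional module of SU(3,4) in characteristic five.
-/

namespace CfsgLib.Recognition.PSU34

set_option maxHeartbeats 4000000

/-- The isotropic points. -/
def ptTable : List (F16 × F16 × F16) :=
  [(⟨0⟩, ⟨1⟩, ⟨1⟩), (⟨0⟩, ⟨1⟩, ⟨8⟩), (⟨0⟩, ⟨1⟩, ⟨10⟩), (⟨0⟩, ⟨1⟩, ⟨12⟩), (⟨0⟩, ⟨1⟩, ⟨15⟩),
   (⟨1⟩, ⟨0⟩, ⟨1⟩), (⟨1⟩, ⟨0⟩, ⟨8⟩), (⟨1⟩, ⟨0⟩, ⟨10⟩), (⟨1⟩, ⟨0⟩, ⟨12⟩), (⟨1⟩, ⟨0⟩, ⟨15⟩),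
   (⟨1⟩, ⟨1⟩, ⟨0⟩), (⟨1⟩, ⟨2⟩, ⟨4⟩), (⟨1⟩, ⟨2⟩, ⟨5⟩), (⟨1⟩, ⟨2⟩, ⟨6⟩), (⟨1⟩, ⟨2⟩, ⟨9⟩),
   (⟨1⟩, ⟨2⟩, ⟨14⟩), (⟨1⟩, ⟨3⟩, ⟨4⟩), (⟨1⟩, ⟨3⟩, ⟨5⟩), (⟨1⟩, ⟨3⟩, ⟨6⟩), (⟨1⟩, ⟨3⟩, ⟨9⟩),
   (⟨1⟩, ⟨3⟩, ⟨14⟩), (⟨1⟩, ⟨4⟩, ⟨2⟩), (⟨1⟩, ⟨4⟩, ⟨3⟩), (⟨1⟩, ⟨4⟩, ⟨7⟩), (⟨1⟩, ⟨4⟩, ⟨11⟩),
   (⟨1⟩, ⟨4⟩, ⟨13⟩), (⟨1⟩, ⟨5⟩, ⟨2⟩), (⟨1⟩, ⟨5⟩, ⟨3⟩), (⟨1⟩, ⟨5⟩, ⟨7⟩), (⟨1⟩, ⟨5⟩, ⟨11⟩),
   (⟨1⟩, ⟨5⟩, ⟨13⟩), (⟨1⟩, ⟨6⟩, ⟨2⟩), (⟨1⟩, ⟨6⟩, ⟨3⟩), (⟨1⟩, ⟨6⟩, ⟨7⟩), (⟨1⟩, ⟨6⟩, ⟨11⟩),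
   (⟨1⟩, ⟨6⟩, ⟨13⟩), (⟨1⟩, ⟨7⟩, ⟨4⟩), (⟨1⟩, ⟨7⟩, ⟨5⟩), (⟨1⟩, ⟨7⟩, ⟨6⟩), (⟨1⟩, ⟨7⟩, ⟨9⟩),
   (⟨1⟩, ⟨7⟩, ⟨14⟩), (⟨1⟩, ⟨8⟩, ⟨0⟩), (⟨1⟩, ⟨9⟩, ⟨2⟩), (⟨1⟩, ⟨9⟩, ⟨3⟩), (⟨1⟩, ⟨9⟩, ⟨7⟩),
   (⟨1⟩, ⟨9⟩, ⟨11⟩), (⟨1⟩, ⟨9⟩, ⟨13⟩), (⟨1⟩, ⟨10⟩, ⟨0⟩), (⟨1⟩, ⟨11⟩, ⟨4⟩), (⟨1⟩, ⟨11⟩, ⟨5⟩),
   (⟨1⟩, ⟨11⟩, ⟨6⟩), (⟨1⟩, ⟨11⟩, ⟨9⟩), (⟨1⟩, ⟨11⟩, ⟨14⟩), (⟨1⟩, ⟨12⟩, ⟨0⟩), (⟨1⟩, ⟨13⟩, ⟨4⟩),
   (⟨1⟩, ⟨13⟩, ⟨5⟩), (⟨1⟩, ⟨13⟩, ⟨6⟩), (⟨1⟩, ⟨13⟩, ⟨9⟩), (⟨1⟩, ⟨13⟩, ⟨14⟩), (⟨1⟩, ⟨14⟩, ⟨2⟩),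
   (⟨1⟩, ⟨14⟩, ⟨3⟩), (⟨1⟩, ⟨14⟩, ⟨7⟩), (⟨1⟩, ⟨14⟩, ⟨11⟩), (⟨1⟩, ⟨14⟩, ⟨13⟩), (⟨1⟩, ⟨15⟩, ⟨0⟩)]

/-- The columns of the map onto the module, four bits per entry. -/
def colTable : List ℕ :=
  [0, 35266313265955, 17592525848643, 18967165014276, 21999161450816, 3312529326642, 20010253685761, 17739289789456, 17884513386514, 35266295304192, 36499760423936, 39866493711105, 56213623612436, 72572133839408, 35322904785442, 71614289155139, 18902708073505, 4549480886563, 137475735600, 21110839328833, 54988466360384, 35258208817216, 20960547906560, 37675522342916, 55118140736035, 38637559428163, 3590610694944, 20014870835521, 36563596620595, 3517578297618, 36366043980292, 53962776577074, 137491648528, 38762634625332, 38492570927124, 56294421565472, 55048598982657, 39600710042641, 21114129548100, 22200958788162,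 55181807989010, 37470169404416, 2207665820435, 53056842776580, 74986106929476, 2491955683857, 55251016238147, 2285782507776, 73809300374322, 4480458424594, 1, 21032791576832, 16, 256, 71581696, 4096, 65536, 1048576, 16777216, 4691178029056, 268435456, 4294967296, 68719476736, 1099511627776, 17592186044416]

/-- The twelve points giving a basis. -/
def basisPt : List (Fin 65) :=
  [50, 52, 53, 55, 56, 57, 58, 60, 61, 62, 63, 64]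

/-- A generator. -/
def gx : Good := ⟨!![⟨3⟩, ⟨8⟩, ⟨3⟩; ⟨12⟩, ⟨10⟩, ⟨10⟩; ⟨3⟩, ⟨12⟩, ⟨7⟩], by decide +kernel⟩

/-- Its permutation of the points. -/
def gxPerm : List (Fin 65) :=
  [5, 20, 27, 39, 59, 4, 12, 53, 63, 6, 56, 22, 10, 50, 30, 54, 38, 58, 24, 2, 60, 19, 0, 47, 7, 43, 33, 31, 32, 34, 35, 1, 46, 28, 52, 36, 44, 51, 41, 16, 21, 48, 62, 13, 55, 26, 64, 61, 9, 25, 42, 15, 37, 45, 14, 29, 17, 23, 3, 49, 57, 40, 11, 18, 8]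

/-- Its matrix on the module, rows with four bits per entry. -/
def gxRows : List ℕ :=
  [3574253814849, 52927454786355, 56161868202017, 292360028930, 74780484321345, 71555228971040, 52923411214849, 36494656934913, 20075248615700, 72855601689600, 37469886153748, 17742528774176]

/-- A generator. -/
def gy : Good := ⟨!![⟨10⟩, ⟨3⟩, ⟨3⟩; ⟨7⟩, ⟨11⟩, ⟨10⟩; ⟨2⟩, ⟨1⟩, ⟨13⟩], by decide +kernel⟩

/-- Its permutation of the points. -/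
def gyPerm : List (Fin 65) :=
  [3, 42, 30, 51, 38, 46, 41, 22, 48, 18, 50, 2, 11, 25, 28, 20, 53, 0, 8, 59, 15, 1, 9, 45, 47, 16, 62, 4, 23, 37, 57, 49, 10, 26, 56, 24, 13, 17, 39, 54, 52, 7, 19, 36, 60, 29, 6, 55, 5, 21, 43, 14, 40, 63, 61, 27, 12, 64, 58, 33, 34, 35, 31, 32, 44]

/-- Its matrix on the module, rows with four bits per entry. -/
def gyRows : List ℕ :=
  [1309982859568, 71683272687632, 4622530053124, 53052312724515, 37671748772658, 35198116045634, 35335285441044, 73753768903474, 53064857829377, 73822184358208, 57183802888212, 57320969208866]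

/-- A generator. -/
def gt0 : Good := ⟨!![⟨1⟩, ⟨0⟩, ⟨0⟩; ⟨0⟩, ⟨0⟩, ⟨1⟩; ⟨0⟩, ⟨1⟩, ⟨0⟩], by decide +kernel⟩

/-- Its permutation of the points. -/
def gt0Perm : List (Fin 65) :=
  [0, 4, 3, 2, 1, 10, 41, 47, 53, 64, 5, 21, 26, 31, 42, 59, 22, 27, 32, 43, 60, 11, 16, 36, 48, 54, 12, 17, 37, 49, 55, 13, 18, 38, 50, 56, 23, 28, 33, 44, 61, 6, 14, 19, 39, 51, 57, 7, 24, 29, 34, 45, 62, 8, 25, 30, 35, 46, 63, 15, 20, 40, 52, 58, 9]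

/-- Its matrix on the module, rows with four bits per entry. -/
def gt0Rows : List ℕ :=
  [8593097220, 74092511489, 4299169792, 17605343650820, 17592456585476, 4298121472, 53893250748416, 17592188215556, 52777363649538, 17605075342352, 9145880579, 35198065647874]

/-- A generator. -/
def gt1 : Good := ⟨!![⟨1⟩, ⟨0⟩, ⟨0⟩; ⟨0⟩, ⟨7⟩, ⟨6⟩; ⟨0⟩, ⟨6⟩, ⟨7⟩], by decide +kernel⟩

/-- Its permutation of the points. -/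
def gt1Perm : List (Fin 65) :=
  [0, 3, 4, 1, 2, 33, 30, 43, 59, 24, 38, 27, 16, 46, 56, 53, 12, 21, 62, 47, 50, 17, 26, 63, 9, 40, 22, 11, 45, 39, 6, 57, 52, 5, 60, 42, 58, 51, 10, 29, 25, 55, 35, 7, 49, 28, 13, 19, 64, 44, 20, 37, 32, 15, 61, 41, 14, 31, 36, 8, 34, 54, 18, 23, 48]

/-- Its matrix on the module, rows with four bits per entry. -/
def gt1Rows : List ℕ :=
  [39583511347968, 52982988276756, 52776562476032, 75059939184913, 17679160259649, 37606786278432, 22144851460144, 17593263206400, 21990790414851, 39719875514912, 54976421306626, 72568357921795]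

/-- A generator. -/
def gt2 : Good := ⟨!![⟨1⟩, ⟨0⟩, ⟨0⟩; ⟨0⟩, ⟨6⟩, ⟨7⟩; ⟨0⟩, ⟨7⟩, ⟨6⟩], by decide +kernel⟩

/-- Its permutation of the points. -/
def gt2Perm : List (Fin 65) :=
  [0, 2, 1, 4, 3, 38, 55, 19, 15, 48, 33, 17, 22, 57, 35, 8, 26, 11, 52, 7, 34, 27, 12, 58, 64, 61, 16, 21, 51, 44, 41, 46, 62, 10, 20, 14, 63, 45, 5, 49, 54, 30, 56, 47, 29, 37, 31, 43, 9, 39, 60, 28, 18, 59, 40, 6, 42, 13, 23, 53, 50, 25, 32, 36, 24]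

/-- Its matrix on the module, rows with four bits per entry. -/
def gt2Rows : List ℕ :=
  [53889290407936, 35270274646064, 35201554268160, 1181184233536, 53055733301264, 56212569854000, 17807005909024, 52776558134273, 18708945843200, 36429979726880, 37396316038144, 56083720704000]

/-- Inverse of `gxRows - 1`. -/
def invRows : List ℕ :=
  [22003704927248, 71545602184228, 56285613736960, 54993636888836, 4609576800306, 70507058774592, 3436579131953, 72641603978004, 19796628538417, 19877109768756, 17735061942529, 571748386]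

/-- Words in `gx`, `gy` reaching each point from the first. -/
def wordTable : List (List (Fin 2)) :=
  [[], [1, 1, 0, 0, 0, 0], [1, 1, 0, 1, 1, 0], [1], [0, 0], [0], [1, 1, 0], [1, 0, 1, 0, 0], [0, 0, 1, 0], [0, 0, 0, 1, 0, 0], [0, 0, 1, 1, 0], [1, 0, 1, 1, 0], [0, 1, 1, 0], [0, 0, 0, 0, 0, 0, 0], [1, 1, 1], [0, 1, 1], [0, 0, 1], [0, 0, 0, 0, 1, 1, 0], [0, 0, 0, 0, 1, 0], [0, 1, 0, 0, 0, 0], [1, 0, 1, 1], [1, 0, 0, 0, 0], [1, 1, 0, 1, 0, 0], [1, 1, 1, 1, 1], [1, 1, 1, 1, 0, 1], [0, 0, 0, 0, 0], [1, 1, 0, 0, 0], [1, 0, 1, 0, 1, 0], [1, 1, 1, 1], [0, 0, 1, 0, 1, 0], [0, 1, 1, 1], [1, 1, 1, 1, 0, 0, 0], [0, 1, 1, 1, 1], [1, 0, 0, 0], [1, 1, 1, 0, 1, 0], [1, 1, 1, 0, 1], [0, 1, 1, 1, 0, 1], [1, 0, 0, 1, 0, 1, 0], [1, 0, 0], [0, 1], [0, 1, 1, 0, 1], [0, 1, 0, 0], [1, 1, 1, 0, 0, 0, 0], [0, 0, 0, 0, 0,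 0], [1, 0, 1, 0], [0, 1, 0, 0, 1], [1, 0], [0, 1, 1, 1, 1, 1], [0, 0, 1, 0, 0], [0, 0, 0, 0], [1, 0, 0, 1, 1, 0], [1, 1], [1, 0, 1, 1, 0, 1], [1, 0, 0, 1], [1, 0, 1], [0, 1, 0, 1, 0], [0, 0, 0, 1, 1, 0], [1, 0, 1, 1, 1], [0, 0, 0, 0, 0, 1, 1, 0], [0, 0, 0], [1, 1, 0, 1, 0], [1, 1, 0, 1], [1, 1, 1, 0, 0, 0], [0, 0, 0, 1, 0], [0, 1, 0]]

/-- An element of order ten. -/
def g10 : Good := ⟨!![⟨2⟩, ⟨7⟩, ⟨12⟩; ⟨15⟩, ⟨3⟩, ⟨13⟩; ⟨3⟩, ⟨1⟩, ⟨11⟩], by decide +kernel⟩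

/-- An element of order fifteen. -/
def g15 : Good := ⟨!![⟨1⟩, ⟨2⟩, ⟨11⟩; ⟨8⟩, ⟨1⟩, ⟨10⟩; ⟨10⟩, ⟨11⟩, ⟨3⟩], by decide +kernel⟩

/-- An isotropic point. -/
def pt (i : Fin 65) : Fin 3 → F16 :=
  let p := ptTable.getD i.val (0, 0, 0)
  ![p.1, p.2.1, p.2.2]

/-- Four bits of a number as a residue modulo five. -/
def digit (n : ℕ) (k : Fin 12) : ZMod 5 := ((n >>> (4 * k.val)) % 16 : ℕ)

/-- The image of a point in the module. -/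
def col (i : Fin 65) : Fin 12 → ZMod 5 := fun k => digit (colTable.getD i.val 0) k

/-- A matrix from its rows. -/
def ofRows (l : List ℕ) : Matrix (Fin 12) (Fin 12) (ZMod 5) := Matrix.of fun i j => digit (l.getD i.val 0) j

/-- A map of points from a list. -/
def ofList (l : List (Fin 65)) (i : Fin 65) : Fin 65 := l.getD i.val 0

/-- A basis point. -/
def bpt (k : Fin 12) : Fin 65 := basisPt.getD k.val 0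

/-- The transvection matrix. -/
def tmat (v : Fin 3 → F16) (c : F16) : Matrix (Fin 3) (Fin 3) F16 :=
  1 + c • Matrix.vecMulVec v (fun j => v j ^ 4)

/-- A word in the two generators. -/
def word (l : List (Fin 2)) : Good := (l.map fun b => if b = 0 then gx else gy).prod

/-- The certificate for one generator. -/
def certOK (g : Good) (p : List (Fin 65)) (R : List ℕ) : Prop :=
  (∀ i : Fin 65, ∃ a : Fin 16, g.1.mulVec (pt i) = (⟨a⟩ : F16) • pt (ofList p i)) ∧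
    ∀ i : Fin 65, col (ofList p i) - col (ofList p 0) = (ofRows R).mulVec (col i)

instance (g : Good) (p : List (Fin 65)) (R : List ℕ) : Decidable (certOK g p R) := by
  unfold certOK; infer_instance

theorem cert_gx : certOK gx gxPerm gxRows := by decide +kernel
theorem cert_gy : certOK gy gyPerm gyRows := by decide +kernel
theorem cert_gt0 : certOK gt0 gt0Perm gt0Rows := by decide +kernel
theorem cert_gt1 : certOK gt1 gt1Perm gt1Rows := by decide +kernel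
theorem cert_gt2 : certOK gt2 gt2Perm gt2Rows := by decide +kernel

theorem col_zero : col 0 = 0 := by decide +kernel

theorem col_basis : ∀ k : Fin 12, col (bpt k) = Pi.single k 1 := by decide +kernel

theorem inv_cert : ofRows invRows * (ofRows gxRows - 1) = 1 := by decide +kernel

theorem pt_ne_zero : ∀ i : Fin 65, pt i ≠ 0 := by decide +kernel

/-- Two vectors are parallel. -/
def Par (v w : Fin 3 → F16) : Prop := v 0 * w 1 = v 1 * w 0 ∧ v 0 * w 2 = v 2 * w 0 ∧ v 1 * w 2 = v 2 * w 1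

instance (v w : Fin 3 → F16) : Decidable (Par v w) := by unfold Par; infer_instance

theorem par_unique : ∀ i j : Fin 65, Par (pt i) (pt j) → i = j := by decide +kernel

/-- The first nonzero coordinate. -/
def lead (a b c : F16) : F16 := if a ≠ 0 then a else if b ≠ 0 then b else c

/-- Index of the point through a vector. -/
def ptIdx (a b c : F16) : Fin 65 :=
  Fin.ofNat 65 (ptTable.findIdx fun p =>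
    decide (p = ((lead a b c)⁻¹ * a, (lead a b c)⁻¹ * b, (lead a b c)⁻¹ * c)))

theorem pt_complete : ∀ a b c : Fin 16, (⟨a⟩ : F16) * (⟨a⟩ : F16) ^ 4 + (⟨b⟩ : F16) * (⟨b⟩ : F16) ^ 4 +
      (⟨c⟩ : F16) * (⟨c⟩ : F16) ^ 4 = 0 →
    (![⟨a⟩, ⟨b⟩, ⟨c⟩] : Fin 3 → F16) = 0 ∨
      (![⟨a⟩, ⟨b⟩, ⟨c⟩] : Fin 3 → F16) = lead ⟨a⟩ ⟨b⟩ ⟨c⟩ • pt (ptIdx ⟨a⟩ ⟨b⟩ ⟨c⟩) := by
  decide +kernel

theorem word_cert : ∀ i : Fin 65, ∃ a : Fin 16, a ≠ 0 ∧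
    (word (wordTable.getD i.val [])).1.mulVec (pt 0) = (⟨a⟩ : F16) • pt i := by
  decide +kernel

theorem tmat_cert : ∀ c : Fin 16, tmat (pt 0) ⟨c⟩ ∈ goodMonoid →
    tmat (pt 0) ⟨c⟩ = (1 : Good).1 ∨ tmat (pt 0) ⟨c⟩ = gt0.1 ∨ tmat (pt 0) ⟨c⟩ = gt1.1 ∨
      tmat (pt 0) ⟨c⟩ = gt2.1 := by
  decide +kernel

theorem gx_order : gx ^ 13 = 1 ∧ gx ≠ 1 := by decide +kernel

theorem g10_order : g10 ^ 10 = 1 ∧ g10 ^ 5 ≠ 1 ∧ g10 ^ 2 ≠ 1 := by decide +kernel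

theorem g15_order : g15 ^ 15 = 1 ∧ g15 ^ 5 ≠ 1 ∧ g15 ^ 3 ≠ 1 := by decide +kernel

end CfsgLib.Recognition.PSU34
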