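import Mathlib
import Cfsg.Agent.S0780
import Cfsg.Agent.Lib.Recognition.PSU34.Tables

/-!
The twelve dimensional module of SU(3,4) over the field with five elements.
-/

namespace CfsgLib.Recognition.PSU34

open Matrix

/-- `g` permutes the points and acts on the module through a matrix. -/
def Rep (g : Good) (p : Fin 65 → Fin 65) (R : Matrix (Fin 12) (Fin 12) (ZMod 5)) : Prop :=
  (∀ i, ∃ a : F16, g.1 *ᵥ pt i = a • pt (p i)) ∧ ∀ i, col (p i) - col (p 0) = R *ᵥ col i

theorem rep_of_cert {g : Good} {p : List (Fin 65)} {R : List ℕ} (h : certOK g p R) :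
    Rep g (ofList p) (ofRows R) :=
  ⟨fun i => (h.1 i).elim fun a ha => ⟨⟨a⟩, ha⟩, h.2⟩

theorem rep_one : Rep 1 id 1 :=
  ⟨fun i => ⟨1, by simp⟩, fun i => by simp [col_zero]⟩

theorem rep_mul {g g' : Good} {p p' : Fin 65 → Fin 65} {R R' : Matrix (Fin 12) (Fin 12) (ZMod 5)}
    (h : Rep g p R) (h' : Rep g' p' R') : Rep (g * g') (p ∘ p') (R * R') := by
  refine ⟨fun i => ?_, fun i => ?_⟩
  · obtain ⟨b, hb⟩ := h'.1 i
    obtain ⟨a, ha⟩ := h.1 (p' i)
    refine ⟨b * a, ?_⟩
    show (g.1 * g'.1) *ᵥ pt i = _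
    rw [← Matrix.mulVec_mulVec, hb, Matrix.mulVec_smul, ha, smul_smul, Function.comp_apply]
  · rw [Function.comp_apply, Function.comp_apply, ← Matrix.mulVec_mulVec, ← h'.2, Matrix.mulVec_sub,
      ← h.2, ← h.2]
    abel

theorem par_of_smul {v w : Fin 3 → F16} (a : F16) (h : v = a • w) : Par v w := by
  subst h
  refine ⟨?_, ?_, ?_⟩ <;> simp only [Pi.smul_apply, smul_eq_mul] <;> ring

theorem good_mulVec_ne_zero (g : Good) {v : Fin 3 → F16} (hv : v ≠ 0) : g.1 *ᵥ v ≠ 0 := by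
  intro h
  apply hv
  have h1 : (g⁻¹ * g).1 *ᵥ v = v := by rw [inv_mul_cancel]; exact Matrix.one_mulVec v
  rw [← h1]
  show ((g⁻¹).1 * g.1) *ᵥ v = 0
  rw [← Matrix.mulVec_mulVec, h, Matrix.mulVec_zero]

theorem rep_unique {g : Good} {p p' : Fin 65 → Fin 65} {R R' : Matrix (Fin 12) (Fin 12) (ZMod 5)}
    (h : Rep g p R) (h' : Rep g p' R') : p = p' ∧ R = R' := by
  have hp : p = p' := by
    funext i
    obtain ⟨a, ha⟩ := h.1 i
    obtain ⟨b, hb⟩ := h'.1 i
    have ha0 : a ≠ 0 := fun e => good_mulVec_ne_zero g (pt_ne_zero i) (by rw [ha, e, zero_smul])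
    refine par_unique _ _ (par_of_smul (a⁻¹ * b) ?_)
    rw [← smul_smul, ← hb, ha, smul_smul, inv_mul_cancel₀ ha0, one_smul]
  subst hp
  refine ⟨rfl, ?_⟩
  ext i k
  have hk := (h.2 (bpt k)).symm.trans (h'.2 (bpt k))
  rw [col_basis, Matrix.mulVec_single_one, Matrix.mulVec_single_one] at hk
  exact congrFun hk i

/-- The elements acting on the module. -/
def repSub : Subgroup Good :=
  let S : Submonoid Good :=
    { carrier := {g | ∃ p R, Rep g p R}
      one_mem' := ⟨_, _, rep_one⟩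
      mul_mem' := fun {a b} ⟨_, _, h⟩ ⟨_, _, h'⟩ => ⟨_, _, rep_mul h h'⟩ }
  { S with
    inv_mem' := fun {g} hg => by
      haveI : Finite Good := inferInstance
      rw [inv_eq_of_mul_eq_one_left (show g ^ (orderOf g - 1) * g = 1 by
        rw [← pow_succ, Nat.sub_add_cancel (orderOf_pos g), pow_orderOf_eq_one])]
      exact S.pow_mem hg _ }

theorem gx_mem : gx ∈ repSub := ⟨_, _, rep_of_cert cert_gx⟩
theorem gy_mem : gy ∈ repSub := ⟨_, _, rep_of_cert cert_gy⟩

theorem word_mem (l : List (Fin 2)) : word l ∈ repSub := by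
  unfold word
  refine Subgroup.list_prod_mem _ fun g hg => ?_
  obtain ⟨b, -, rfl⟩ := List.mem_map.1 hg
  split_ifs
  · exact gx_mem
  · exact gy_mem

theorem tmat_smul (v : Fin 3 → F16) (a c : F16) : tmat (a • v) c = tmat v (c * a * a ^ 4) := by
  refine Matrix.ext fun i j => ?_
  simp only [tmat, Matrix.add_apply, Matrix.smul_apply, Matrix.vecMulVec_apply, Pi.smul_apply,
    smul_eq_mul, mul_pow]
  ring

theorem tmat_mulVec (g : Good) (v : Fin 3 → F16) (c : F16) :
    tmat (g.1 *ᵥ v) c * g.1 = g.1 * tmat v c := by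
  have h4 : (fun j => (g.1 *ᵥ v) j ^ 4) = bar g.1 *ᵥ (fun j => v j ^ 4) := by
    funext i
    simp only [bar, Matrix.mulVec, dotProduct, Fin.sum_univ_three, bar_add, mul_pow, Matrix.map_apply]
  have hu : (bar g.1)ᵀ * g.1 = 1 := by
    rw [← Matrix.transpose_one, ← g.2.1, Matrix.transpose_mul, Matrix.transpose_transpose]
  rw [tmat, tmat, add_mul, mul_add, one_mul, mul_one, Matrix.smul_mul, Matrix.mul_smul,
    Matrix.mul_vecMulVec, Matrix.vecMulVec_mul, h4, ← Matrix.mulVec_transpose, Matrix.mulVec_mulVec]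
  rw [show g.1ᵀ * bar g.1 = 1 from g.2.1, Matrix.one_mulVec]

theorem tmat_cert' (c : F16) (h : tmat (pt 0) c ∈ goodMonoid) :
    tmat (pt 0) c = (1 : Good).1 ∨ tmat (pt 0) c = gt0.1 ∨ tmat (pt 0) c = gt1.1 ∨ tmat (pt 0) c = gt2.1 := by
  obtain ⟨i⟩ := c
  exact tmat_cert i h

theorem eq_zero_of_left_inv {n R : Type*} [Fintype n] [DecidableEq n] [CommRing R] {A Q : Matrix n n R}
    (hQ : Q * (A - 1) = 1) {w : n → R} (hw : A *ᵥ w = w) : w = 0 := by
  rw [← Matrix.one_mulVec w, ← hQ, ← Matrix.mulVec_mulVec, Matrix.sub_mulVec, hw, Matrix.one_mulVec,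
    sub_self, Matrix.mulVec_zero]

theorem repSub_eq_top : repSub = ⊤ := by
  let φ := goodEquiv F16.card_eq (RingEquiv.refl F16)
  have h0780 := Cfsg.Agent.S0780.result (F := F16) (q := 4) (by rw [F16.card_eq]; norm_num) 3 le_rfl
    (by norm_num)
  have key : repSub.map φ.toMonoidHom = ⊤ := by
    rw [eq_top_iff, ← h0780, Subgroup.closure_le]
    rintro A ⟨v, c, hv, hA⟩
    obtain ⟨M, rfl⟩ := φ.surjective A
    refine ⟨M, ?_, rfl⟩
    have hM : M.1 = tmat v c := by
      rw [← show M.1.map (RingEquiv.refl F16) = M.1 from Matrix.ext fun i j => rfl]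
      exact (goodEquiv_coe F16.card_eq _ M).symm.trans hA
    have hv' : v 0 * v 0 ^ 4 + v 1 * v 1 ^ 4 + v 2 * v 2 ^ 4 = 0 := by
      simpa [Cfsg.hermForm, Fin.sum_univ_three] using hv
    have hvv : v = ![⟨(v 0).v⟩, ⟨(v 1).v⟩, ⟨(v 2).v⟩] := by
      funext i; fin_cases i <;> rfl
    rcases pt_complete (v 0).v (v 1).v (v 2).v hv' with h | h
    · have : M = 1 := Subtype.ext <| by
        rw [hM, hvv, h]
        refine Matrix.ext fun i j => ?_
        simp [tmat, Matrix.vecMulVec_apply]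
      rw [this]; exact repSub.one_mem
    · set i := ptIdx (⟨(v 0).v⟩ : F16) ⟨(v 1).v⟩ ⟨(v 2).v⟩
      obtain ⟨a, ha, hw⟩ := word_cert i
      set w := word (wordTable.getD i.val [])
      set b := lead (⟨(v 0).v⟩ : F16) ⟨(v 1).v⟩ ⟨(v 2).v⟩
      have ha' : (⟨a⟩ : F16) ≠ 0 := fun e => ha (congrArg F16.v e)
      have hv2 : v = (b * (⟨a⟩ : F16)⁻¹) • (w.1 *ᵥ pt 0) := by
        rw [hw, smul_smul, mul_assoc, inv_mul_cancel₀ ha', mul_one, hvv]
        exact h
      have hK : (w⁻¹ * M * w).1 = tmat (pt 0) (c * (b * (⟨a⟩ : F16)⁻¹) * (b * (⟨a⟩ : F16)⁻¹) ^ 4) := by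
        show (w⁻¹).1 * M.1 * w.1 = _
        rw [hM, hv2, tmat_smul, mul_assoc, tmat_mulVec, ← mul_assoc]
        rw [show (w⁻¹).1 * w.1 = 1 from congrArg Subtype.val (inv_mul_cancel w), one_mul]
      have hK2 : w⁻¹ * M * w ∈ repSub := by
        generalize c * (b * (⟨a⟩ : F16)⁻¹) * (b * (⟨a⟩ : F16)⁻¹) ^ 4 = c' at hK
        rcases tmat_cert' c' (hK ▸ (w⁻¹ * M * w).2) with
          e | e | e | e <;> rw [Subtype.ext (hK.trans e)]
        · exact repSub.one_mem
        · exact ⟨_, _, rep_of_cert cert_gt0⟩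
        · exact ⟨_, _, rep_of_cert cert_gt1⟩
        · exact ⟨_, _, rep_of_cert cert_gt2⟩
      have hwm : w ∈ repSub := word_mem _
      have := mul_mem (mul_mem hwm hK2) (inv_mem hwm)
      rwa [show w * (w⁻¹ * M * w) * w⁻¹ = M by group] at this
  have := congrArg (Subgroup.comap φ.toMonoidHom) key
  rwa [Subgroup.comap_map_eq_self_of_injective φ.injective, Subgroup.comap_top] at this

theorem exists_rep (g : Good) : ∃ pR : (Fin 65 → Fin 65) × Matrix (Fin 12) (Fin 12) (ZMod 5), Rep g pR.1 pR.2 := by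
  obtain ⟨p, R, h⟩ : g ∈ repSub := repSub_eq_top ▸ Subgroup.mem_top g
  exact ⟨(p, R), h⟩

/-- The representation. -/
noncomputable def rho : Good →* Matrix (Fin 12) (Fin 12) (ZMod 5) where
  toFun g := (exists_rep g).choose.2
  map_one' := (rep_unique (exists_rep 1).choose_spec rep_one).2
  map_mul' g g' := (rep_unique (exists_rep (g * g')).choose_spec
    (rep_mul (exists_rep g).choose_spec (exists_rep g').choose_spec)).2

theorem rho_gx : rho gx = ofRows gxRows :=
  (rep_unique (exists_rep gx).choose_spec (rep_of_cert cert_gx)).2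

theorem card_good : Nat.card Good = 62400 := by
  rw [Nat.card_congr (goodEquiv F16.card_eq (RingEquiv.refl F16)).toEquiv, card_SU34 F16.card_eq]

theorem orderOf_gx : orderOf gx = 13 := by
  haveI : Fact (Nat.Prime 13) := ⟨by norm_num⟩
  exact orderOf_eq_prime gx_order.1 gx_order.2

/-- Elements of order thirteen act without fixed vectors. -/
theorem fpf_thirteen (g : Good) (hg : orderOf g = 13) (v : Fin 12 → ZMod 5) (hv : rho g *ᵥ v = v) :
    v = 0 := by
  haveI : Fact (Nat.Prime 13) := ⟨by norm_num⟩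
  have hf : (62400 : ℕ).factorization 13 = 1 := by
    rw [show (62400 : ℕ) = 13 * 4800 by norm_num, Nat.factorization_mul (by norm_num) (by norm_num),
      Finsupp.add_apply, Nat.Prime.factorization_self (by norm_num),
      Nat.factorization_eq_zero_of_not_dvd (by norm_num)]
  have hcard : ∀ u : Good, orderOf u = 13 →
      Nat.card (Subgroup.zpowers u) = 13 ^ (Nat.card Good).factorization 13 := fun u hu => by
    rw [Nat.card_zpowers, hu, card_good, hf, pow_one]
  let P := Sylow.ofCard _ (hcard g hg)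
  let Q := Sylow.ofCard _ (hcard gx orderOf_gx)
  obtain ⟨u, hu⟩ := MulAction.exists_smul_eq Good P Q
  have hmem : gx ∈ (Q : Subgroup Good) := Subgroup.mem_zpowers gx
  rw [← hu, Sylow.coe_subgroup_smul, Subgroup.mem_pointwise_smul_iff_inv_smul_mem] at hmem
  obtain ⟨k, hk⟩ := (Subgroup.mem_zpowers_iff.1 hmem : ∃ k : ℤ, g ^ k = _)
  obtain ⟨n, hn⟩ : ∃ n : ℕ, g ^ n = g ^ k := by
    refine ⟨(k % 13).toNat, ?_⟩
    rw [← zpow_natCast, Int.toNat_of_nonneg (Int.emod_nonneg k (by norm_num))]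
    exact (zpow_eq_zpow_emod' k (show g ^ 13 = 1 from orderOf_dvd_iff_pow_eq_one.1 (dvd_of_eq hg))).symm
  have hgx : gx = u * g ^ n * u⁻¹ := by
    rw [hn, hk]
    simp [MulAut.smul_def, ← mul_assoc]
  have hpow : rho (g ^ n) *ᵥ v = v := by
    clear hn hgx
    induction n with
    | zero => rw [pow_zero, map_one, Matrix.one_mulVec]
    | succ n ih => rw [pow_succ, map_mul, ← Matrix.mulVec_mulVec, hv, ih]
  have hfix : rho gx *ᵥ (rho u *ᵥ v) = rho u *ᵥ v := by
    rw [hgx, Matrix.mulVec_mulVec, ← map_mul, inv_mul_cancel_right, map_mul, ← Matrix.mulVec_mulVec, hpow]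
  rw [rho_gx] at hfix
  have h0 : rho u *ᵥ v = 0 := eq_zero_of_left_inv inv_cert hfix
  have := congrArg (fun z => rho u⁻¹ *ᵥ z) h0
  simpa [Matrix.mulVec_mulVec, ← map_mul] using this

end CfsgLib.Recognition.PSU34
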