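import Mathlib
import Cfsg.Agent.Lib.Recog.Isospectral
import Cfsg.Agent.Lib.Recognition.PSU34.Module

/-!
A group with a normal 5-subgroup and the prime graph of SU(3,4).
-/

namespace CfsgLib.Recognition.PSU34

open Matrix

/-- The module. -/
abbrev V12 := Fin 12 → ZMod 5

/-- The action on the module by automorphisms. -/
noncomputable def actV : Good →* MulAut (Multiplicative V12) where
  toFun g :=
    { toFun := fun v => Multiplicative.ofAdd (rho g *ᵥ v.toAdd)
      invFun := fun v => Multiplicative.ofAdd (rho g⁻¹ *ᵥ v.toAdd)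
      left_inv := fun v => by simp [Matrix.mulVec_mulVec, ← map_mul]
      right_inv := fun v => by simp [Matrix.mulVec_mulVec, ← map_mul]
      map_mul' := fun v w => by simp [Matrix.mulVec_add] }
  map_one' := MulEquiv.ext fun v => by simp
  map_mul' g h := MulEquiv.ext fun v => by simp [Matrix.mulVec_mulVec]

/-- The extension. -/
abbrev H0 := Multiplicative V12 ⋊[actV] Good

instance : Finite H0 := Finite.of_equiv _ (SemidirectProduct.equivProd (φ := actV)).symm

/-- The normal subgroup. -/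
noncomputable def kerV : Subgroup H0 := (SemidirectProduct.rightHom : H0 →* Good).ker

instance : kerV.Normal := MonoidHom.normal_ker _

theorem pow_five (v : Multiplicative V12) : v ^ 5 = 1 := by
  refine Multiplicative.toAdd.injective ?_
  funext i
  rw [toAdd_pow, toAdd_one, Pi.smul_apply, Pi.zero_apply, nsmul_eq_mul]
  rw [show ((5 : ℕ) : ZMod 5) = 0 from ZMod.natCast_self 5, zero_mul]

theorem kerV_exp : ∀ x ∈ kerV, x ^ 5 = 1 := by
  intro x hx
  have hr : x.right = 1 := hx
  have hx' : x = SemidirectProduct.inl x.left := SemidirectProduct.ext rfl hr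
  rw [hx', ← map_pow, pow_five, map_one]

theorem kerV_ne_bot : kerV ≠ ⊥ := by
  intro h
  have hm : (SemidirectProduct.inl (Multiplicative.ofAdd (Pi.single 0 1 : V12)) : H0) ∈ kerV :=
    SemidirectProduct.rightHom_inl _
  rw [h, Subgroup.mem_bot, ← map_one (SemidirectProduct.inl : Multiplicative V12 →* H0)] at hm
  have := congrFun (congrArg Multiplicative.toAdd (SemidirectProduct.inl_injective hm)) 0
  simp at this
  exact (by decide : (1 : ZMod 5) ≠ 0) this

/-- An element of the extension with nontrivial power in the module gives a fixed vector. -/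
theorem fixed_of_pow (x : H0) {m : ℕ} (h : (x ^ m).right = 1) :
    rho x.right *ᵥ (x ^ m).left.toAdd = (x ^ m).left.toAdd := by
  have hc : x * x ^ m = x ^ m * x := (Commute.self_pow x m).eq
  have h1 := congrArg (fun y : H0 => y.left.toAdd) hc
  simp only [SemidirectProduct.mul_left, h, map_one, MulAut.one_apply, toAdd_mul] at h1
  have h2 : x.left.toAdd + rho x.right *ᵥ (x ^ m).left.toAdd = x.left.toAdd + (x ^ m).left.toAdd := by
    rw [add_comm x.left.toAdd (x ^ m).left.toAdd]; exact h1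
  exact add_left_cancel h2

theorem exists_orderOf_ten : ∃ g : Good, orderOf g = 10 := by
  refine ⟨g10, ?_⟩
  have hd := orderOf_dvd_of_pow_eq_one g10_order.1
  have h5 : ¬ orderOf g10 ∣ 5 := fun h => g10_order.2.1 (orderOf_dvd_iff_pow_eq_one.1 h)
  have h2 : ¬ orderOf g10 ∣ 2 := fun h => g10_order.2.2 (orderOf_dvd_iff_pow_eq_one.1 h)
  generalize orderOf g10 = n at hd h5 h2
  have : n ≤ 10 := Nat.le_of_dvd (by norm_num) hd
  interval_cases n <;> omega

theorem exists_orderOf_fifteen : ∃ g : Good, orderOf g = 15 := by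
  refine ⟨g15, ?_⟩
  have hd := orderOf_dvd_of_pow_eq_one g15_order.1
  have h5 : ¬ orderOf g15 ∣ 5 := fun h => g15_order.2.1 (orderOf_dvd_iff_pow_eq_one.1 h)
  have h3 : ¬ orderOf g15 ∣ 3 := fun h => g15_order.2.2 (orderOf_dvd_iff_pow_eq_one.1 h)
  generalize orderOf g15 = n at hd h5 h3
  have : n ≤ 15 := Nat.le_of_dvd (by norm_num) hd
  interval_cases n <;> omega

theorem prime_cases {p : ℕ} (hp : p.Prime) (h : p ∣ 62400) : p = 2 ∨ p = 3 ∨ p = 5 ∨ p = 13 := by
  rw [show (62400 : ℕ) = 2 ^ 6 * (3 * (5 ^ 2 * 13)) by norm_num] at h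
  rcases hp.dvd_mul.1 h with h | h
  · exact Or.inl ((Nat.prime_dvd_prime_iff_eq hp Nat.prime_two).1 (hp.dvd_of_dvd_pow h))
  rcases hp.dvd_mul.1 h with h | h
  · exact Or.inr (Or.inl ((Nat.prime_dvd_prime_iff_eq hp Nat.prime_three).1 h))
  rcases hp.dvd_mul.1 h with h | h
  · exact Or.inr (Or.inr (Or.inl ((Nat.prime_dvd_prime_iff_eq hp Nat.prime_five).1 (hp.dvd_of_dvd_pow h))))
  · exact Or.inr (Or.inr (Or.inr ((Nat.prime_dvd_prime_iff_eq hp (by norm_num)).1 h)))

theorem prime_dvd_card_iff {p : ℕ} (hp : p.Prime) : p ∣ Nat.card H0 ↔ p ∣ Nat.card Good := by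
  have hV : Nat.card (Multiplicative V12) = 5 ^ 12 := by simp
  rw [SemidirectProduct.card, hV]
  refine ⟨fun h => ?_, fun h => dvd_mul_of_dvd_right h _⟩
  rcases hp.dvd_mul.1 h with h | h
  · rw [(Nat.prime_dvd_prime_iff_eq hp Nat.prime_five).1 (hp.dvd_of_dvd_pow h), card_good]
    norm_num
  · exact h

/-- An element of order `5q` in the extension gives one in SU(3,4). -/
theorem five_edge {q : ℕ} (hq : q.Prime) (hq5 : q ≠ 5) (x : H0) (hx : orderOf x = 5 * q) :
    ∃ g : Good, orderOf g = 5 * q := by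
  have hqG : q ∣ Nat.card Good := by
    rw [← prime_dvd_card_iff hq]
    exact (dvd_mul_left q 5).trans (hx ▸ orderOf_dvd_natCard x)
  rcases prime_cases hq (card_good ▸ hqG) with rfl | rfl | rfl | rfl
  · exact exists_orderOf_ten
  · exact exists_orderOf_fifteen
  · exact absurd rfl hq5
  · set m := orderOf x.right with hm
    have hright : ∀ n, (x ^ n).right = x.right ^ n := fun n =>
      map_pow (SemidirectProduct.rightHom : H0 →* Good) x n
    have hxm : (x ^ m).right = 1 := by rw [hright, hm, pow_orderOf_eq_one]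
    have h5 : (x ^ m) ^ 5 = 1 := kerV_exp _ hxm
    rw [← pow_mul] at h5
    have hdvd : 5 * 13 ∣ m * 5 := hx ▸ orderOf_dvd_of_pow_eq_one h5
    have hmd : m ∣ 5 * 13 := hx ▸ orderOf_map_dvd (SemidirectProduct.rightHom : H0 →* Good) x
    have hle : m ≤ 65 := Nat.le_of_dvd (by norm_num) hmd
    have hcases : m = 13 ∨ m = 65 := by interval_cases m <;> omega
    rcases hcases with h13 | h65
    · have hv := fpf_thirteen x.right (hm ▸ h13) _ (fixed_of_pow x hxm)
      have : x ^ m = 1 := SemidirectProduct.ext hv hxm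
      have hd := orderOf_dvd_of_pow_eq_one this
      rw [hx, h13] at hd
      norm_num at hd
    · exact ⟨x.right, hm ▸ h65⟩

/-- The extension has the prime graph of SU(3,4). -/
theorem edge_iff {p q : ℕ} (hp : p.Prime) (hq : q.Prime) (hpq : p ≠ q) :
    (∃ g : Good, orderOf g = p * q) ↔ (∃ x : H0, orderOf x = p * q) := by
  constructor
  · rintro ⟨g, hg⟩
    exact ⟨SemidirectProduct.inr g, by rw [orderOf_injective _ SemidirectProduct.inr_injective, hg]⟩
  rintro ⟨x, hx⟩
  by_cases h5 : p = 5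
  · subst h5; exact five_edge hq (Ne.symm hpq) x hx
  by_cases h5' : q = 5
  · subst h5'
    rw [mul_comm] at hx ⊢
    exact five_edge hp h5 x hx
  refine ⟨x.right, Nat.dvd_antisymm (hx ▸ orderOf_map_dvd (SemidirectProduct.rightHom : H0 →* Good) x) ?_⟩
  have hpow : (x ^ orderOf x.right) ^ 5 = 1 := by
    refine kerV_exp _ ?_
    show (x ^ orderOf x.right).right = 1
    exact (map_pow (SemidirectProduct.rightHom : H0 →* Good) x _).trans (pow_orderOf_eq_one _)
  rw [← pow_mul] at hpow
  have hd : p * q ∣ orderOf x.right * 5 := hx ▸ orderOf_dvd_of_pow_eq_one hpow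
  refine Nat.Coprime.dvd_of_dvd_mul_right ?_ hd
  exact Nat.Coprime.mul_left ((Nat.coprime_primes hp Nat.prime_five).2 h5)
    ((Nat.coprime_primes hq Nat.prime_five).2 h5')

/-- Groups of unbounded order with the prime graph of SU(3,4). -/
theorem exists_large (N : ℕ) :
    ∃ (H : Type) (_ : Group H) (_ : Finite H), N < Nat.card H ∧
      (∀ p : ℕ, p.Prime → (p ∣ Nat.card Good ↔ p ∣ Nat.card H)) ∧
      ∀ p q : ℕ, p.Prime → q.Prime → p ≠ q →
        ((∃ g : Good, orderOf g = p * q) ↔ (∃ g : H, orderOf g = p * q)) := by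
  obtain ⟨H, iG, iF, hN, hrange⟩ :=
    CfsgLib.Recog.exists_large_isospectral_of_exponent kerV kerV_ne_bot Nat.prime_five kerV_exp N
  have hord : ∀ n, (∃ g : H, orderOf g = n) ↔ (∃ x : H0, orderOf x = n) := fun n =>
    Set.ext_iff.1 hrange n
  refine ⟨H, iG, inferInstance, by rwa [Nat.card_eq_fintype_card], fun p hp => ?_,
    fun p q hp hq hpq => (edge_iff hp hq hpq).trans (hord _).symm⟩
  haveI : Fact p.Prime := ⟨hp⟩
  rw [← prime_dvd_card_iff hp]
  refine ⟨fun h => ?_, fun h => ?_⟩
  · obtain ⟨x, hx⟩ := exists_prime_orderOf_dvd_card' p h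
    obtain ⟨g, hg⟩ := (hord p).2 ⟨x, hx⟩
    exact hg ▸ orderOf_dvd_natCard g
  · obtain ⟨x, hx⟩ := exists_prime_orderOf_dvd_card' p h
    obtain ⟨g, hg⟩ := (hord p).1 ⟨x, hx⟩
    exact hg ▸ orderOf_dvd_natCard g

end CfsgLib.Recognition.PSU34
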